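import Cfsg.Agent.Lib.KnownA.SL2Torus.Exist
import Cfsg.Prelude.Def_ParabolicCharacters

/-!
# The number of classes of the Borel subgroup of `SL(2, q)`, `q` odd
-/

set_option autoImplicit false

namespace CfsgLib.KnownA.SL2Torus

open scoped MatrixGroups
open CfsgLib.KnownB.GL2

variable {F : Type*} [Field F] [Fintype F]

local notation "Mat" => Matrix (Fin 2) (Fin 2) F

/-- The upper triangular subgroup. -/
abbrev bor (F : Type*) [Field F] : Subgroup SL(2, F) :=
  (Cfsg.upperTriangularGL 2 F).comap Matrix.SpecialLinearGroup.toGL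

omit [Fintype F] in
theorem mem_bor {g : SL(2, F)} : g ∈ bor F ↔ (g : Mat) 1 0 = 0 := by
  constructor
  · exact fun h => h (show id (0 : Fin 2) < id 1 by decide)
  · intro h i j hij
    fin_cases i <;> fin_cases j <;> simp_all

omit [Fintype F] in
/-- Coordinates on the upper triangular subgroup. -/
def borEquiv : Fˣ × F ≃ bor F where
  toFun p := ⟨mkSL !![(p.1 : F), p.2; 0, (p.1 : F)⁻¹] (by simp [Matrix.det_fin_two]),
    mem_bor.2 (by simp)⟩
  invFun g := (Units.mk0 (((g : SL(2, F)) : Mat) 0 0) (fun h => by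
      have hd := sl_det (g : SL(2, F))
      rw [Matrix.det_fin_two, mem_bor.1 g.2, h] at hd
      simp at hd), ((g : SL(2, F)) : Mat) 0 1)
  left_inv p := Prod.ext (Units.ext (by simp)) (by simp)
  right_inv g := by
    have hd := sl_det (g : SL(2, F))
    rw [Matrix.det_fin_two, mem_bor.1 g.2, mul_zero, sub_zero] at hd
    refine Subtype.ext (Subtype.ext ?_)
    ext i j
    fin_cases i <;> fin_cases j <;> simp [mem_bor.1 g.2]
    exact inv_eq_of_mul_eq_one_right hd

omit [Fintype F] in
theorem borEquiv_commute (p r : Fˣ × F) :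
    borEquiv r * borEquiv p = borEquiv p * borEquiv r ↔
      r.2 * ((p.1 : F) - (p.1 : F)⁻¹) = p.2 * ((r.1 : F) - (r.1 : F)⁻¹) := by
  constructor
  · intro h
    have h' := congrArg (fun g : bor F => ((g : SL(2, F)) : Mat) 0 1) h
    simp [borEquiv, Matrix.mul_apply, Fin.sum_univ_two] at h'
    linear_combination -h'
  · intro h
    refine Subtype.ext (Subtype.ext ?_)
    ext i j
    fin_cases i <;> fin_cases j <;> simp [borEquiv, Matrix.mul_apply, Fin.sum_univ_two, mul_comm]
    linear_combination -h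

theorem card_sq_one (h2 : (2 : F) ≠ 0) [DecidableEq F] :
    (Finset.univ.filter fun a : Fˣ => (a : F) ^ 2 = 1).card = 2 := by
  classical
  have hne : (1 : Fˣ) ≠ -1 := fun h => h2 (by
    have := congrArg Units.val h
    simp only [Units.val_one, Units.val_neg] at this
    linear_combination this)
  rw [show (Finset.univ.filter fun a : Fˣ => (a : F) ^ 2 = 1) = {1, -1} from ?_, Finset.card_pair hne]
  ext a
  simp only [Finset.mem_filter, Finset.mem_univ, true_and, Finset.mem_insert, Finset.mem_singleton,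
    sq_eq_one_iff, Units.ext_iff, Units.val_one, Units.val_neg]

theorem card_classes_bor (hodd : Odd (Fintype.card F)) :
    Nat.card (ConjClasses (bor F)) = Fintype.card F + 3 := by
  classical
  have h2 := two_ne_zero_of_odd' hodd
  have key := card_conjClasses_mul (G := bor F)
  rw [← Equiv.sum_comp borEquiv] at key
  have hcard : Nat.card (bor F) = (Fintype.card F - 1) * Fintype.card F := by
    rw [← Nat.card_congr borEquiv, Nat.card_prod, Nat.card_units, Nat.card_eq_fintype_card]
  have hu : Fintype.card Fˣ = Fintype.card F - 1 := by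
    rw [← Nat.card_eq_fintype_card, Nat.card_units, Nat.card_eq_fintype_card]
  let c : Fˣ × F → ℕ := fun p =>
    if (p.1 : F) ^ 2 = 1 then (if p.2 = 0 then (Fintype.card F - 1) * Fintype.card F else 2 * Fintype.card F)
    else Fintype.card F - 1
  have hc : ∀ p, Nat.card (Subgroup.centralizer ({borEquiv p} : Set (bor F))) = c p := by
    intro p
    have himg : Nat.card (Subgroup.centralizer ({borEquiv p} : Set (bor F))) =
        Nat.card {r : Fˣ × F // r.2 * ((p.1 : F) - (p.1 : F)⁻¹) = p.2 * ((r.1 : F) - (r.1 : F)⁻¹)} := by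
      refine Nat.card_congr (Equiv.subtypeEquiv borEquiv fun r => ?_).symm
      exact ((borEquiv_commute p r).symm.trans Subgroup.mem_centralizer_singleton_iff.symm)
    rw [himg]
    have hp0 : (p.1 : F) ≠ 0 := p.1.ne_zero
    have hself : ∀ a : Fˣ, (a : F) - (a : F)⁻¹ = 0 ↔ (a : F) ^ 2 = 1 := fun a => by
      rw [sub_eq_zero, sq]
      exact ⟨fun h => by nth_rewrite 2 [h]; exact mul_inv_cancel₀ a.ne_zero,
        fun h => eq_inv_of_mul_eq_one_left h⟩
    simp only [c]
    split_ifs with h h'
    · rw [← hcard, ← Nat.card_congr (borEquiv (F := F))]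
      refine Nat.card_congr (Equiv.subtypeUnivEquiv fun r => ?_)
      rw [(hself _).2 h, h', mul_zero, zero_mul]
    · have : ∀ r : Fˣ × F, r.2 * ((p.1 : F) - (p.1 : F)⁻¹) = p.2 * ((r.1 : F) - (r.1 : F)⁻¹) ↔
          (r.1 : F) ^ 2 = 1 := fun r => by
        rw [(hself _).2 h, mul_zero, eq_comm, mul_eq_zero, or_iff_right h', hself]
      rw [Nat.card_congr (Equiv.subtypeEquivRight this), Nat.card_eq_fintype_card, Fintype.card_subtype,
        show (Finset.univ.filter fun r : Fˣ × F => (r.1 : F) ^ 2 = 1) =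
          (Finset.univ.filter fun a : Fˣ => (a : F) ^ 2 = 1) ×ˢ Finset.univ by ext; simp,
        Finset.card_product, card_sq_one h2, Finset.card_univ]
    · have hne : (p.1 : F) - (p.1 : F)⁻¹ ≠ 0 := fun h0 => h ((hself _).1 h0)
      rw [← hu, ← Nat.card_eq_fintype_card (α := Fˣ)]
      exact Nat.card_congr
        { toFun := fun r => r.1.1
          invFun := fun a => ⟨(a, p.2 * ((a : F) - (a : F)⁻¹) / ((p.1 : F) - (p.1 : F)⁻¹)),
            div_mul_cancel₀ _ hne⟩
          left_inv := fun r => Subtype.ext (Prod.ext rfl (by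
            dsimp only
            rw [← r.2, mul_div_cancel_right₀ _ hne]))
          right_inv := fun a => rfl }
  rw [Finset.sum_congr rfl fun p _ => hc p, Fintype.sum_prod_type,
    ← Finset.sum_add_sum_compl (Finset.univ.filter fun a : Fˣ => (a : F) ^ 2 = 1)] at key
  obtain ⟨m, hm1, hm⟩ := even_minus hodd
  have hs : ∀ a ∈ Finset.univ.filter (fun a : Fˣ => (a : F) ^ 2 = 1), ∑ b : F, c (a, b) =
      (Fintype.card F - 1) * Fintype.card F + (Fintype.card F - 1) * (2 * Fintype.card F) := by
    intro a ha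
    have ha' := (Finset.mem_filter.1 ha).2
    rw [← Finset.add_sum_erase _ _ (Finset.mem_univ (0 : F))]
    congr 1
    · simp only [c]; rw [if_pos ha']; simp
    · rw [Finset.sum_congr rfl (g := fun _ => 2 * Fintype.card F) fun b hb => ?_, Finset.sum_const,
        Finset.card_erase_of_mem (Finset.mem_univ _), Finset.card_univ, smul_eq_mul]
      simp only [c]; rw [if_pos ha', if_neg (Finset.mem_erase.1 hb).1]
  have hn : ∀ a ∈ (Finset.univ.filter fun a : Fˣ => (a : F) ^ 2 = 1)ᶜ, ∑ b : F, c (a, b) =
      Fintype.card F * (Fintype.card F - 1) := by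
    intro a ha
    have ha' : ¬ (a : F) ^ 2 = 1 := fun h =>
      Finset.mem_compl.1 ha (Finset.mem_filter.2 ⟨Finset.mem_univ _, h⟩)
    rw [Finset.sum_congr rfl (g := fun _ => Fintype.card F - 1) fun b _ => ?_, Finset.sum_const,
      Finset.card_univ, smul_eq_mul]
    simp only [c]; rw [if_neg ha']
  rw [Finset.sum_congr rfl hs, Finset.sum_congr rfl hn, Finset.sum_const, Finset.sum_const,
    Finset.card_compl, card_sq_one h2, hu, smul_eq_mul, smul_eq_mul, hcard, hm,
    Nat.add_sub_cancel] at key
  rw [hm]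
  have hp : 0 < 2 * m * (2 * m + 1) := by positivity
  refine Nat.eq_of_mul_eq_mul_right hp ?_
  rw [key]
  obtain ⟨k, rfl⟩ : ∃ k, m = k + 1 := ⟨m - 1, by omega⟩
  rw [show 2 * (k + 1) - 2 = 2 * k by omega]
  ring

end CfsgLib.KnownA.SL2Torus
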