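import Cfsg.Agent.Lib.KnownA.SL2Torus.Basic
import Mathlib.GroupTheory.CommutingProbability

/-!
# The number of classes of a torus normaliser
-/

set_option autoImplicit false

namespace CfsgLib.KnownA.SL2Torus

open scoped MatrixGroups
open CfsgLib.KnownB.GL2 CfsgLib.Classical

variable {F : Type*} [Field F] [Fintype F]

local notation "Mat" => Matrix (Fin 2) (Fin 2) F

theorem card_conjClasses_mul {G : Type*} [Group G] [Fintype G] :
    Nat.card (ConjClasses G) * Nat.card G =
      ∑ g : G, Nat.card (Subgroup.centralizer ({g} : Set G)) := by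
  rw [← card_comm_eq_card_conjClasses_mul_card,
    Nat.card_congr (Equiv.subtypeProdEquivSigmaSubtype fun (x y : G) => Commute x y), Nat.card_sigma]
  refine Finset.sum_congr rfl fun g _ => Nat.card_congr (Equiv.subtypeEquivRight fun y => ?_)
  rw [Subgroup.mem_centralizer_singleton_iff]
  exact ⟨fun h => h.eq.symm, fun h => h.symm⟩

theorem IsTorus.card_classes_normalizer {T : Subgroup SL(2, F)} (hT : IsTorus T) (h2 : (2 : F) ≠ 0) :
    2 * Nat.card (ConjClasses (Subgroup.normalizer (T : Set SL(2, F)))) = Nat.card T + 6 := by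
  classical
  obtain ⟨b, hb, hbb, hinv⟩ := hT.exists_flip h2
  set N := Subgroup.normalizer (T : Set SL(2, F)) with hN
  have hcard := hT.card_normalizer h2 hb hbb hinv
  rw [← hN] at hcard
  have hout : ∀ {g : SL(2, F)}, g ∈ N → g ∉ T → g * g = -1 ∧ ∀ a ∈ T, g * a * g⁻¹ = a⁻¹ :=
    fun hg hgT => hT.outside_inv h2 hb hbb hinv hg hgT
  have hleT : T ≤ N := Subgroup.le_normalizer
  let c : N → ℕ := fun g =>
    if (g : SL(2, F)) = 1 ∨ (g : SL(2, F)) = -1 then Nat.card N
    else if (g : SL(2, F)) ∈ T then Nat.card T else 4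
  have hc : ∀ g : N, Nat.card (Subgroup.centralizer ({g} : Set N)) = c g := by
    intro g
    have himg : Nat.card (Subgroup.centralizer ({g} : Set N)) =
        Nat.card {x : SL(2, F) // x ∈ N ∧ x * g = g * x} := by
      refine Nat.card_congr
        { toFun := fun x => ⟨((x : N) : SL(2, F)), (x : N).2,
            congrArg Subtype.val (Subgroup.mem_centralizer_singleton_iff.1 x.2)⟩
          invFun := fun x => ⟨⟨x.1, x.2.1⟩, Subgroup.mem_centralizer_singleton_iff.2 (Subtype.ext x.2.2)⟩
          left_inv := fun x => rfl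
          right_inv := fun x => rfl }
    rw [himg]
    simp only [c]
    split_ifs with h h'
    · refine Nat.card_congr (Equiv.subtypeEquivRight fun x => ?_)
      constructor
      · exact fun hx => hx.1
      · intro hx
        refine ⟨hx, ?_⟩
        rcases h with h | h <;> rw [h]
        · simp
        · exact Subgroup.mem_center_iff.1 neg_one_mem_center x
    · push Not at h
      refine Nat.card_congr (Equiv.subtypeEquivRight fun x => ?_)
      constructor
      · rintro ⟨-, hx⟩
        rw [← (hT.cent _ h' h.1 h.2).1, Subgroup.mem_centralizer_singleton_iff]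
        exact hx
      · exact fun hx => ⟨hleT hx, hT.comm hx h'⟩
    · push Not at h
      obtain ⟨hgg, hginv⟩ := hout g.2 h'
      have hg' : (g : SL(2, F))⁻¹ = -(g : SL(2, F)) := inv_eq_of_mul_eq_one_right (by
        rw [mul_neg, hgg, neg_neg])
      have hT2 : ∀ x ∈ T, x * (g : SL(2, F)) = g * x → x = 1 ∨ x = -1 := by
        intro x hx he
        have e := hginv x hx
        rw [← he, mul_inv_cancel_right] at e
        have hxx : x * x = 1 := by nth_rewrite 1 [e]; rw [inv_mul_cancel]
        rcases eq_or_ne x 1 with h1 | h1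
        · exact Or.inl h1
        · exact Or.inr (sl2_eq_neg_one h2 h1 hxx)
      have hset : {x : SL(2, F) | x ∈ N ∧ x * g = g * x} =
          ↑({1, -1, (g : SL(2, F)), -(g : SL(2, F))} : Finset SL(2, F)) := by
        ext x
        simp only [Set.mem_setOf_eq, Finset.coe_insert, Finset.coe_singleton, Set.mem_insert_iff,
          Set.mem_singleton_iff]
        constructor
        · rintro ⟨hxN, hx⟩
          by_cases hxT : x ∈ T
          · rcases hT2 x hxT hx with e | e
            · exact Or.inl e
            · exact Or.inr (Or.inl e)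
          · have hxgT : x * (g : SL(2, F)) ∈ T := by
              rcases (hT.mem_normalizer_iff' h2 hb hbb hinv).1 hxN with e | e
              · exact absurd e hxT
              · have e2 := ((hT.mem_normalizer_iff' h2 hb hbb hinv).1 (N.inv_mem g.2)).resolve_left
                  (fun hh => h' (by simpa using T.inv_mem hh))
                have := T.mul_mem e (T.inv_mem e2)
                have e3 : x * b * ((g : SL(2, F))⁻¹ * b)⁻¹ = x * g := by group
                rwa [e3] at this
            have hcomm : x * (g : SL(2, F)) * g = g * (x * g) := by rw [← mul_assoc, ← hx]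
            rcases hT2 _ hxgT hcomm with e | e
            · exact Or.inr (Or.inr (Or.inr (by rw [← hg', eq_inv_of_mul_eq_one_left e])))
            · refine Or.inr (Or.inr (Or.inl ?_))
              calc x = x * (g : SL(2, F)) * (g : SL(2, F))⁻¹ := by rw [mul_inv_cancel_right]
                _ = g := by rw [e, hg', neg_mul_neg, one_mul]
        · have hneg : (-1 : SL(2, F)) ∈ N := hleT hT.neg
          rintro (rfl | rfl | rfl | rfl)
          · exact ⟨N.one_mem, by simp⟩
          · exact ⟨hneg, Subgroup.mem_center_iff.1 neg_one_mem_center _ |>.symm⟩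
          · exact ⟨g.2, rfl⟩
          · exact ⟨by rw [← hg']; exact N.inv_mem g.2, by rw [neg_mul, mul_neg]⟩
      have hne : (-1 : SL(2, F)) ≠ 1 := neg_one_ne_one h2
      have hng : (g : SL(2, F)) ≠ -(g : SL(2, F)) := fun e => by
        rw [← hg'] at e
        have : (g : SL(2, F)) * g = 1 := by nth_rewrite 1 [e]; rw [inv_mul_cancel]
        rw [hgg] at this
        exact hne this
      change Nat.card {x : SL(2, F) | x ∈ N ∧ x * g = g * x} = 4
      rw [hset, Nat.card_coe_set_eq, Set.ncard_coe_finset, Finset.card_insert_of_notMem, Finset.card_insert_of_notMem,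
        Finset.card_pair hng]
      · simp only [Finset.mem_insert, Finset.mem_singleton, not_or]
        exact ⟨fun e => h.2 e.symm, fun e => h.1 (neg_inj.1 e).symm⟩
      · simp only [Finset.mem_insert, Finset.mem_singleton, not_or]
        exact ⟨Ne.symm hne, fun e => h.1 e.symm, fun e => h.2 (by rw [e, neg_neg])⟩
  have key := card_conjClasses_mul (G := N)
  rw [Finset.sum_congr rfl fun g _ => hc g] at key
  let s : Finset N := Finset.univ.filter fun g => (g : SL(2, F)) ∈ T
  have hs : s.card = Nat.card T := by
    rw [← Nat.card_eq_finsetCard]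
    exact Nat.card_congr
      { toFun := fun x => ⟨(x.1 : SL(2, F)), (Finset.mem_filter.1 x.2).2⟩
        invFun := fun x => ⟨⟨x.1, hleT x.2⟩, Finset.mem_filter.2 ⟨Finset.mem_univ _, x.2⟩⟩
        left_inv := fun x => rfl
        right_inv := fun x => rfl }
  let s2 : Finset N := {1, ⟨-1, hleT hT.neg⟩}
  have hs2c : s2.card = 2 := Finset.card_pair fun e => neg_one_ne_one h2 (congrArg Subtype.val e).symm
  have hs2m : ∀ g : N, g ∈ s2 ↔ ((g : SL(2, F)) = 1 ∨ (g : SL(2, F)) = -1) := fun g => by
    simp only [s2, Finset.mem_insert, Finset.mem_singleton]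
    exact or_congr ⟨fun h => congrArg Subtype.val h, fun h => Subtype.ext h⟩
      ⟨fun h => congrArg Subtype.val h, fun h => Subtype.ext h⟩
  have hsub : s2 ⊆ s := by
    intro g hg
    refine Finset.mem_filter.2 ⟨Finset.mem_univ _, ?_⟩
    rcases (hs2m g).1 hg with e | e <;> rw [e]
    · exact T.one_mem
    · exact hT.neg
  rw [← Finset.sum_add_sum_compl s, ← Finset.sum_sdiff hsub] at key
  have h1 : ∑ g ∈ s \ s2, c g = (Nat.card T - 2) * Nat.card T := by
    rw [Finset.sum_congr rfl (g := fun _ => Nat.card T) fun g hg => ?_, Finset.sum_const,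
      Finset.card_sdiff_of_subset hsub, hs, hs2c, smul_eq_mul]
    rw [Finset.mem_sdiff, hs2m] at hg
    simp only [c, if_neg hg.2, if_pos (Finset.mem_filter.1 hg.1).2]
  have h2' : ∑ g ∈ s2, c g = 2 * Nat.card N := by
    rw [Finset.sum_congr rfl (g := fun _ => Nat.card N) fun g hg => ?_, Finset.sum_const, hs2c,
      smul_eq_mul]
    simp only [c, if_pos ((hs2m g).1 hg)]
  have h3 : ∑ g ∈ sᶜ, c g = Nat.card T * 4 := by
    rw [Finset.sum_congr rfl (g := fun _ => 4) fun g hg => ?_, Finset.sum_const, Finset.card_compl, hs,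
      ← Nat.card_eq_fintype_card, hcard, two_mul, Nat.add_sub_cancel, smul_eq_mul]
    have hgs : (g : SL(2, F)) ∉ T := fun h => Finset.mem_compl.1 hg
      (Finset.mem_filter.2 ⟨Finset.mem_univ _, h⟩)
    simp only [c]
    rw [if_neg, if_neg hgs]
    rintro (e | e) <;> apply hgs <;> rw [e]
    · exact T.one_mem
    · exact hT.neg
  rw [h1, h2', h3, hcard] at key
  have hc3 := hT.card
  obtain ⟨m, hm⟩ : ∃ m, Nat.card T = m + 2 := ⟨Nat.card T - 2, by omega⟩
  rw [hm, Nat.add_sub_cancel] at key
  rw [hm]
  nlinarith

end CfsgLib.KnownA.SL2Torus
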