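import Cfsg.Agent.Lib.KnownA.SL2Torus.Exist

/-!
# Sylow normalisers and centralisers in `SL(2, q)`, `q` odd
-/

set_option autoImplicit false

namespace CfsgLib.KnownA.SL2Torus

open scoped MatrixGroups
open CfsgLib.KnownB.GL2 CfsgLib.Classical

variable {F : Type*} [Field F] [Fintype F]

local notation "Mat" => Matrix (Fin 2) (Fin 2) F

theorem odd_sylow (hodd : Odd (Fintype.card F)) (ℓ : ℕ) [Fact ℓ.Prime] (hℓ : ℓ ≠ 2)
    (P : Sylow ℓ SL(2, F)) (hdvd : ℓ ∣ Fintype.card F - 1 ∨ ℓ ∣ Fintype.card F + 1) :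
    ∃ T : Subgroup SL(2, F), IsTorus T ∧
      ((ℓ ∣ Fintype.card F - 1 ∧ Nat.card T = Fintype.card F - 1) ∨
        (ℓ ∣ Fintype.card F + 1 ∧ Nat.card T = Fintype.card F + 1)) ∧
      Subgroup.centralizer ((P : Subgroup SL(2, F)) : Set SL(2, F)) = T ∧
      Nat.card (Subgroup.normalizer ((P : Subgroup SL(2, F)) : Set SL(2, F))) = 2 * Nat.card T := by
  classical
  have h2 := two_ne_zero_of_odd' hodd
  have hl : ℓ.Prime := Fact.out
  obtain ⟨p, hpc⟩ := CharP.exists F
  obtain ⟨n, hp, hn⟩ := FiniteField.card F p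
  have : Fact p.Prime := ⟨hp⟩
  have hlp : ℓ ≠ p := by
    rintro rfl
    have hdq : ℓ ∣ Fintype.card F := by rw [hn]; exact dvd_pow_self _ n.ne_zero
    have hq1 : 1 ≤ Fintype.card F := Fintype.card_pos
    rcases hdvd with h | h
    · have := Nat.dvd_sub hdq h
      rw [Nat.sub_sub_self hq1] at this
      exact hl.one_lt.ne' (Nat.dvd_one.1 this)
    · have := Nat.dvd_sub h hdq
      rw [Nat.add_sub_cancel_left] at this
      exact hl.one_lt.ne' (Nat.dvd_one.1 this)
  have hcyc := sl2_sylow_cyclic p ℓ hℓ hlp P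
  obtain ⟨u, hu⟩ := (Subgroup.isCyclic_iff_exists_zpowers_eq_top (H := (P : Subgroup SL(2, F)))).1 hcyc
  have hlG : ℓ ∣ Nat.card SL(2, F) := by
    rw [card_sl2']
    rcases hdvd with h | h
    · exact Dvd.dvd.mul_left (h.mul_right _) _
    · exact Dvd.dvd.mul_left (h.mul_left _) _
  have hlu : ℓ ∣ orderOf u := by
    rw [← Nat.card_zpowers, hu]
    exact P.dvd_card_of_dvd_card hlG
  have ho3 : 3 ≤ orderOf u := by
    have := Nat.le_of_dvd (orderOf_pos u) hlu
    have := hl.two_le
    omega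
  obtain ⟨a, ha⟩ : ∃ a, orderOf u = ℓ ^ a := by
    obtain ⟨a, ha⟩ := (IsPGroup.iff_card.1 P.isPGroup')
    exact ⟨a, by rw [← Nat.card_zpowers, hu, ha]⟩
  have hcop : (orderOf u).Coprime p := by
    rw [ha]
    exact Nat.Coprime.pow_left _ ((Nat.coprime_primes hl hp).2 hlp)
  obtain ⟨T, hT, huT, hcard⟩ := exists_torus hodd (sl2_trace_of_order p hcop ho3)
  have hlT : ℓ ∣ Nat.card T := hlu.trans (by
    rw [← Nat.card_zpowers]
    exact Subgroup.card_dvd_of_le ((Subgroup.zpowers_le).2 huT))
  have hu1 : u ≠ 1 := by rintro rfl; simp at ho3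
  have hun1 : u ≠ -1 := by
    rintro rfl
    have := Nat.le_of_dvd two_pos
      (orderOf_dvd_of_pow_eq_one (x := (-1 : SL(2, F))) (by rw [pow_two, neg_one_sq']))
    omega
  have hCu := (hT.cent u huT hu1 hun1).1
  have hC : Subgroup.centralizer ((P : Subgroup SL(2, F)) : Set SL(2, F)) = T := by
    rw [← hu, Subgroup.zpowers_eq_closure, Subgroup.centralizer_closure, hCu]
  obtain ⟨b, hb, hbb, hinv⟩ := hT.exists_flip h2
  refine ⟨T, hT, ?_, hC, ?_⟩
  · rcases hcard with h | h
    · exact Or.inl ⟨h ▸ hlT, h⟩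
    · exact Or.inr ⟨h ▸ hlT, h⟩
  · rw [← hT.card_normalizer h2 hb hbb hinv]
    congr 2
    apply le_antisymm
    · intro g hg
      rw [Subgroup.mem_normalizer_iff]
      intro x
      rw [← hC]
      have key : ∀ g ∈ Subgroup.normalizer ((P : Subgroup SL(2, F)) : Set SL(2, F)), ∀ x ∈
          Subgroup.centralizer ((P : Subgroup SL(2, F)) : Set SL(2, F)),
          g * x * g⁻¹ ∈ Subgroup.centralizer ((P : Subgroup SL(2, F)) : Set SL(2, F)) := by
        intro g hg x hx
        rw [Subgroup.mem_centralizer_iff] at hx ⊢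
        intro y hy
        have hy' : g⁻¹ * y * g ∈ (P : Subgroup SL(2, F)) := by
          have := (Subgroup.mem_normalizer_iff.1 (Subgroup.inv_mem _ hg) y).1 hy
          simpa using this
        calc y * (g * x * g⁻¹) = g * (g⁻¹ * y * g * x) * g⁻¹ := by group
          _ = g * x * g⁻¹ * y := by rw [hx _ hy']; group
      refine ⟨key g hg x, fun h => ?_⟩
      have := key g⁻¹ (Subgroup.inv_mem _ hg) _ h
      simpa [mul_assoc] using this
    · intro g hg
      have hgen : ∀ g ∈ Subgroup.normalizer (T : Set SL(2, F)), g * u * g⁻¹ ∈ Subgroup.zpowers u := by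
        intro g hg
        by_cases hgT : g ∈ T
        · rw [hT.comm hgT huT, mul_inv_cancel_right]
          exact Subgroup.mem_zpowers u
        · rw [(hT.outside_inv h2 hb hbb hinv hg hgT).2 u huT]
          exact Subgroup.inv_mem _ (Subgroup.mem_zpowers u)
      have hall : ∀ g ∈ Subgroup.normalizer (T : Set SL(2, F)), ∀ x ∈ (P : Subgroup SL(2, F)),
          g * x * g⁻¹ ∈ (P : Subgroup SL(2, F)) := by
        intro g hg x hx
        rw [← hu] at hx ⊢
        obtain ⟨k, rfl⟩ := Subgroup.mem_zpowers_iff.1 hx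
        rw [← MulAut.conj_apply, map_zpow, MulAut.conj_apply]
        exact Subgroup.zpow_mem _ (hgen g hg) k
      rw [Subgroup.mem_normalizer_iff]
      intro x
      refine ⟨hall g hg x, fun h => ?_⟩
      have := hall g⁻¹ (Subgroup.inv_mem _ hg) _ h
      simpa [mul_assoc] using this

omit [Fintype F] in
theorem det_of_sq_eq (M : Mat) : M.det • (1 : Mat) = M.trace • M - M * M := by
  ext i j
  fin_cases i <;> fin_cases j <;>
    simp [Matrix.det_fin_two, Matrix.trace_fin_two, Matrix.mul_apply, Fin.sum_univ_two] <;> ring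

omit [Fintype F] in
/-- The element of order `6` permuting three quaternion generators. -/
theorem exists_triality (h2 : (2 : F) ≠ 0) {i j : SL(2, F)} (hi : i * i = -1) (hj : j * j = -1)
    (hji : j * i = -(i * j)) : ∃ g : SL(2, F), g * i * g⁻¹ = j ∧ g * j * g⁻¹ = i * j := by
  have hI : (i : Mat) * (i : Mat) = -1 := by simpa using congrArg Subtype.val hi
  have hJ : (j : Mat) * (j : Mat) = -1 := by simpa using congrArg Subtype.val hj
  have hJI : (j : Mat) * (i : Mat) = -((i : Mat) * (j : Mat)) := by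
    simpa using congrArg Subtype.val hji
  have htr : ∀ x : SL(2, F), (x : Mat) * (x : Mat) = -1 → (x : Mat).trace = 0 := by
    intro x hx
    have h := sl2_sq x
    rw [hx] at h
    have hz : (x : Mat).trace • (x : Mat) = 0 := by
      rw [eq_sub_iff_add_eq, neg_add_cancel] at h
      exact h.symm
    rcases smul_eq_zero.1 hz with h' | h'
    · exact h'
    · exact absurd (show (x : Mat).det = 0 by rw [h']; simp) (by rw [sl_det]; exact one_ne_zero)
  set I := (i : Mat) with hIdef
  set J := (j : Mat) with hJdef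
  let W : Mat := I + J + I * J
  have e1 : I * J * I = J := by rw [Matrix.mul_assoc, hJI, mul_neg, ← Matrix.mul_assoc, hI, neg_mul, one_mul, neg_neg]
  have e2 : J * (I * J) = I := by rw [← Matrix.mul_assoc, hJI, neg_mul, Matrix.mul_assoc, hJ, mul_neg, mul_one, neg_neg]
  have e3 : I * (I * J) = -J := by rw [← Matrix.mul_assoc, hI, neg_mul, one_mul]
  have e4 : I * J * J = -I := by rw [Matrix.mul_assoc, hJ, mul_neg, mul_one]
  have e5 : I * J * (I * J) = -1 := by rw [← Matrix.mul_assoc, e1, hJ]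
  have hW : W * W = (-3 : F) • (1 : Mat) := by
    simp only [W, add_mul, mul_add, hI, hJ, hJI, e1, e2, e3, e4, e5]
    module
  have htW : W.trace = 0 := by
    have hIJ : (I * J).trace = 0 := htr (i * j) e5
    have hI' : I.trace = 0 := htr i hI
    have hJ' : J.trace = 0 := htr j hJ
    simp only [W, Matrix.trace_add, hI', hJ', hIJ, add_zero]
  let G : Mat := (2 : F)⁻¹ • (1 + W)
  have hG2 : G * G = G - 1 := by
    simp only [G, smul_mul_assoc, mul_smul_comm, add_mul, mul_add, one_mul, mul_one, hW, smul_smul]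
    match_scalars <;> field_simp <;> ring
  have htG : G.trace = 1 := by
    simp [G, Matrix.trace_smul, Matrix.trace_add, htW, Matrix.trace_one]
    field_simp
  have hdG : G.det = 1 := by
    have h := det_of_sq_eq G
    rw [htG, one_smul, hG2, sub_sub_cancel] at h
    have := congrFun (congrFun h 0) 0
    simpa using this
  have hgi : G * I = J * G := by
    simp only [G, W, smul_mul_assoc, mul_smul_comm]
    congr 1
    simp only [add_mul, mul_add, one_mul, mul_one, hI, hJ, hJI, e1, e2]
    abel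
  have hgj : G * J = I * J * G := by
    simp only [G, W, smul_mul_assoc, mul_smul_comm]
    congr 1
    simp only [add_mul, mul_add, one_mul, mul_one, hI, hJ, hJI, e1, e2, e4, e5]
    abel
  refine ⟨⟨G, hdG⟩, ?_, ?_⟩
  · exact mul_inv_eq_iff_eq_mul.2 (Subtype.ext hgi)
  · exact mul_inv_eq_iff_eq_mul.2 (Subtype.ext hgj)

open QuaternionGroup in
theorem quat_four_cases : ∀ v : QuaternionGroup 2, v * v ≠ 1 →
    (v = a 1 ∨ v⁻¹ = a 1) ∨ (v = xa 0 ∨ v⁻¹ = xa 0) ∨ (v = xa 1 ∨ v⁻¹ = xa 1) := by decide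

open QuaternionGroup in
theorem quat_conj_a_one : ∀ v : QuaternionGroup 2, v * a 1 * v⁻¹ = a 1 ∨ v * a 1 * v⁻¹ = (a 1)⁻¹ := by
  decide

theorem two_part {q k : ℕ} (hodd : Odd q) (hq : 1 < q)
    (h : (q * ((q - 1) * (q + 1))).factorization 2 = k + 2) :
    ((q % 8 = 1 ∨ q % 8 = 7) → 2 ≤ k) ∧ ((q % 8 = 3 ∨ q % 8 = 5) → k ≤ 1) := by
  have hq2 := Nat.odd_iff.1 hodd
  have hpos : q * ((q - 1) * (q + 1)) ≠ 0 :=
    Nat.mul_ne_zero (by omega) (Nat.mul_ne_zero (by omega) (by omega))
  have hcop : Nat.Coprime 16 q := by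
    show Nat.Coprime (2 ^ 4) q
    exact Nat.Coprime.pow_left 4 ((Nat.Prime.coprime_iff_not_dvd Nat.prime_two).2 (by omega))
  constructor
  · intro hq8
    have h16 : 2 ^ 4 ∣ q * ((q - 1) * (q + 1)) := by
      refine Dvd.dvd.mul_left ?_ q
      rcases hq8 with e | e
      · obtain ⟨c, hc⟩ : 8 ∣ q - 1 := by omega
        obtain ⟨d, hd⟩ : 2 ∣ q + 1 := by omega
        exact ⟨c * d, by rw [hc, hd]; ring⟩
      · obtain ⟨c, hc⟩ : 2 ∣ q - 1 := by omega
        obtain ⟨d, hd⟩ : 8 ∣ q + 1 := by omega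
        exact ⟨c * d, by rw [hc, hd]; ring⟩
    have := (Nat.Prime.pow_dvd_iff_le_factorization Nat.prime_two hpos).1 h16
    omega
  · intro hq8
    by_contra hk
    have h16 : 2 ^ 4 ∣ q * ((q - 1) * (q + 1)) :=
      (Nat.Prime.pow_dvd_iff_le_factorization Nat.prime_two hpos).2 (by omega)
    have h' : 16 ∣ (q - 1) * (q + 1) := hcop.dvd_of_dvd_mul_left h16
    rcases hq8 with e | e
    · obtain ⟨c, hc⟩ : ∃ c, q = 8 * c + 3 := ⟨q / 8, by omega⟩
      rw [hc, show (8 * c + 3 - 1) * (8 * c + 3 + 1) = 16 * (4 * c * c + 3 * c) + 8 by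
        rw [show 8 * c + 3 - 1 = 8 * c + 2 by omega]; ring] at h'
      omega
    · obtain ⟨c, hc⟩ : ∃ c, q = 8 * c + 5 := ⟨q / 8, by omega⟩
      rw [hc, show (8 * c + 5 - 1) * (8 * c + 5 + 1) = 16 * (4 * c * c + 5 * c + 1) + 8 by
        rw [show 8 * c + 5 - 1 = 8 * c + 4 by omega]; ring] at h'
      omega

theorem two_sylow (hodd : Odd (Fintype.card F)) (S : Sylow 2 SL(2, F)) :
    Subgroup.centralizer ((S : Subgroup SL(2, F)) : Set SL(2, F)) = Subgroup.center SL(2, F) ∧
    ((Fintype.card F % 8 = 1 ∨ Fintype.card F % 8 = 7) →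
      Subgroup.normalizer ((S : Subgroup SL(2, F)) : Set SL(2, F)) = (S : Subgroup SL(2, F))) ∧
    ((Fintype.card F % 8 = 3 ∨ Fintype.card F % 8 = 5) →
      Nat.card (Subgroup.normalizer ((S : Subgroup SL(2, F)) : Set SL(2, F))) = 3 * Nat.card S) := by
  classical
  have h2 := two_ne_zero_of_odd' hodd
  obtain ⟨p, hpc⟩ := CharP.exists F
  obtain ⟨n, hp, hn⟩ := FiniteField.card F p
  have : Fact p.Prime := ⟨hp⟩
  have hp2 : p ≠ 2 := by
    rintro rfl
    rw [hn] at hodd
    exact Nat.not_odd_iff_even.2 (Nat.even_pow.2 ⟨even_two, n.ne_zero⟩) hodd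
  obtain ⟨k, hk1, hfac, ⟨e⟩⟩ := sl2_sylow_two hodd S
  rw [card_sl2'] at hfac
  have hk8 := two_part hodd Fintype.one_lt_card hfac
  have hnz : NeZero (2 ^ k) := ⟨pow_ne_zero _ two_ne_zero⟩
  set N := Subgroup.normalizer ((S : Subgroup SL(2, F)) : Set SL(2, F)) with hN
  let xs : (S : Subgroup SL(2, F)) := e.symm (QuaternionGroup.a 1)
  let ys : (S : Subgroup SL(2, F)) := e.symm (QuaternionGroup.xa 0)
  set x : SL(2, F) := (xs : SL(2, F)) with hxdef
  set y : SL(2, F) := (ys : SL(2, F)) with hydef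
  have hox : orderOf x = 2 ^ (k + 1) := by
    rw [hxdef, Subgroup.orderOf_coe, MulEquiv.orderOf_eq, QuaternionGroup.orderOf_a_one, pow_succ']
  have hx4 : 4 ≤ orderOf x := by
    rw [hox]
    calc 4 = 2 ^ 2 := rfl
      _ ≤ 2 ^ (k + 1) := Nat.pow_le_pow_right two_pos (by omega)
  have hoy : orderOf y = 4 := by
    rw [hydef, Subgroup.orderOf_coe, MulEquiv.orderOf_eq, QuaternionGroup.orderOf_xa]
  have hyx : y * x * y⁻¹ = x⁻¹ := by
    have h : ys * xs * ys⁻¹ = xs⁻¹ := by
      apply e.injective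
      simp only [xs, ys, map_mul, map_inv, MulEquiv.apply_symm_apply]
      rw [mul_inv_eq_iff_eq_mul, show (QuaternionGroup.a 1 : QuaternionGroup (2 ^ k))⁻¹ =
        QuaternionGroup.a (-1) from rfl, QuaternionGroup.xa_mul_a, QuaternionGroup.a_mul_xa]
      simp
    exact congrArg Subtype.val h
  have hx1 : x ≠ 1 := by rintro h; rw [h, orderOf_one] at hx4; omega
  have hxn1 : x ≠ -1 := by
    intro h
    have := Nat.le_of_dvd two_pos
      (orderOf_dvd_of_pow_eq_one (x := x) (by rw [h, pow_two, neg_one_sq']))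
    omega
  have hcop : (orderOf x).Coprime p := by
    rw [hox]
    exact Nat.Coprime.pow_left _ ((Nat.coprime_primes Nat.prime_two hp).2 (Ne.symm hp2))
  obtain ⟨T, hT, hxT, -⟩ := exists_torus hodd (sl2_trace_of_order p hcop (by omega))
  obtain ⟨hCx, htrx⟩ := hT.cent x hxT hx1 hxn1
  obtain ⟨b, hb, hbb, hinv⟩ := hT.exists_flip h2
  have hyT : y ∉ T := fun h => by
    rw [hT.comm h hxT, mul_inv_cancel_right] at hyx
    have : x * x = 1 := by nth_rewrite 1 [hyx]; rw [inv_mul_cancel]
    exact hxn1 (sl2_eq_neg_one h2 hx1 this)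
  have hyN : y ∈ Subgroup.normalizer (T : Set SL(2, F)) := by
    refine (hT.mem_normalizer_iff' h2 hb hbb hinv).2 (Or.inr ?_)
    rw [← hCx, Subgroup.mem_centralizer_singleton_iff]
    have hi : y * x⁻¹ * y⁻¹ = x := by
      have := congrArg (fun z => z⁻¹) hyx
      simpa [mul_assoc] using this
    calc y * b * x = y * (b * x * b⁻¹) * b := by group
      _ = y * x⁻¹ * y⁻¹ * (y * b) := by rw [hinv x hxT]; group
      _ = x * (y * b) := by rw [hi]
  obtain ⟨hyy, hyinv⟩ := hT.outside_inv h2 hb hbb hinv hyN hyT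
  have hTS : ∀ a ∈ T, a ∈ N → a ∈ (S : Subgroup SL(2, F)) := by
    intro a haT haN
    have hya : a * y * a⁻¹ ∈ (S : Subgroup SL(2, F)) := (Subgroup.mem_normalizer_iff.1 haN y).1 ys.2
    have e1 : y * a⁻¹ * y⁻¹ = a := by rw [hyinv _ (T.inv_mem haT), inv_inv]
    have h2a : a * a ∈ (S : Subgroup SL(2, F)) := by
      have e2 : a * y * a⁻¹ = a * (y * a⁻¹ * y⁻¹) * y := by group
      rw [e2, e1] at hya
      have hyS : y ∈ (S : Subgroup SL(2, F)) := ys.2
      have := mul_mem hya (inv_mem hyS)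
      rwa [mul_inv_cancel_right] at this
    obtain ⟨j, hj⟩ : ∃ j, (a * a) ^ (2 ^ j) = 1 := by
      obtain ⟨j, hj⟩ := S.isPGroup' ⟨a * a, h2a⟩
      exact ⟨j, congrArg Subtype.val hj⟩
    have hpg : IsPGroup 2 (Subgroup.zpowers a) := by
      rintro ⟨z, hz⟩
      obtain ⟨m, rfl⟩ := Subgroup.mem_zpowers_iff.1 hz
      refine ⟨j + 1, Subtype.ext ?_⟩
      change (a ^ m) ^ (2 ^ (j + 1)) = 1
      rw [← zpow_natCast, ← zpow_mul, mul_comm, zpow_mul, zpow_natCast, pow_succ', pow_mul, pow_two, hj,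
        one_zpow]
    have hmem : a ∈ Subgroup.zpowers a ⊓ N := ⟨Subgroup.mem_zpowers a, haN⟩
    exact ((SetLike.ext_iff.1 (hpg.inf_normalizer_sylow S) a).1 hmem).2
  have hstab : ∀ g ∈ N, g * x * g⁻¹ = x ∨ g * x * g⁻¹ = x⁻¹ → g ∈ (S : Subgroup SL(2, F)) := by
    intro g hg hgx
    rcases hgx with h | h
    · refine hTS g ?_ hg
      rw [← hCx, Subgroup.mem_centralizer_singleton_iff]
      exact mul_inv_eq_iff_eq_mul.1 h
    · have hgyN : g * y ∈ N := mul_mem hg (Subgroup.le_normalizer ys.2)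
      have hgy : g * y ∈ T := by
        rw [← hCx, Subgroup.mem_centralizer_singleton_iff]
        have hgi : g * x⁻¹ * g⁻¹ = x := by
          have := congrArg (fun z => z⁻¹) h
          simpa [mul_assoc] using this
        calc g * y * x = g * (y * x * y⁻¹) * y := by group
          _ = g * x⁻¹ * g⁻¹ * (g * y) := by rw [hyx]; group
          _ = x * (g * y) := by rw [hgi]
      have hyS : y ∈ (S : Subgroup SL(2, F)) := ys.2
      have := mul_mem (hTS _ hgy hgyN) (inv_mem hyS)
      rwa [mul_inv_cancel_right] at this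
  refine ⟨?_, ?_, ?_⟩
  · refine le_antisymm (fun g hg => ?_) (Subgroup.center_le_centralizer _)
    rw [Subgroup.mem_centralizer_iff] at hg
    have hgT : g ∈ T := by
      rw [← hCx, Subgroup.mem_centralizer_singleton_iff]
      exact (hg x xs.2).symm
    have e1 := hyinv g hgT
    rw [hg y ys.2, mul_inv_cancel_right] at e1
    have hgg : g * g = 1 := by nth_rewrite 1 [e1]; rw [inv_mul_cancel]
    rcases eq_or_ne g 1 with h | h
    · rw [h]; exact Subgroup.one_mem _
    · rw [sl2_eq_neg_one h2 h hgg]; exact neg_one_mem_center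
  · intro h8
    have hk2 := hk8.1 h8
    refine le_antisymm (fun g hg => hstab g hg ?_) Subgroup.le_normalizer
    have hmem : g * x * g⁻¹ ∈ (S : Subgroup SL(2, F)) := (Subgroup.mem_normalizer_iff.1 hg x).1 xs.2
    refine eq_or_inv_of_commute h2 (fun hs => ?_) htrx ?_ (trace_conj g x)
    · rcases (scal_iff_pm x).1 hs with h | h
      · exact hx1 h
      · exact hxn1 h
    · have ho : orderOf (e ⟨_, hmem⟩) = 2 ^ (k + 1) := by
        rw [MulEquiv.orderOf_eq, ← Subgroup.orderOf_coe]
        exact (orderOf_injective (MulAut.conj g).toMonoidHom (MulAut.conj g).injective x).trans hox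
      rcases hv : e ⟨_, hmem⟩ with i | i
      · have hc : e ⟨_, hmem⟩ * e xs = e xs * e ⟨_, hmem⟩ := by
          rw [hv]
          simp [xs, add_comm]
        rw [← map_mul, ← map_mul] at hc
        exact congrArg Subtype.val (e.injective hc)
      · rw [hv, QuaternionGroup.orderOf_xa] at ho
        have h8' : 2 ^ 3 ≤ 2 ^ (k + 1) := Nat.pow_le_pow_right two_pos (by omega)
        omega
  · intro h8
    obtain rfl : k = 1 := by have := hk8.2 h8; omega
    have hxx : x * x = -1 := by
      refine sl2_eq_neg_one h2 ?_ ?_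
      · intro h
        have := Nat.le_of_dvd two_pos (orderOf_dvd_of_pow_eq_one (x := x) (by rw [pow_two, h]))
        omega
      · have := pow_orderOf_eq_one x
        rw [hox] at this
        rw [show (2 : ℕ) ^ (1 + 1) = 2 * 2 from rfl, pow_mul, pow_two, pow_two] at this
        exact this
    have hji : y * x = -(x * y) := by
      have h : y * x = x⁻¹ * y := mul_inv_eq_iff_eq_mul.1 hyx
      rw [h, inv_eq_of_mul_eq_one_right (show x * -x = 1 by rw [mul_neg, hxx, neg_neg]), neg_mul]
    obtain ⟨g, hgx, hgy⟩ := exists_triality h2 hxx hyy hji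
    have hgen : ∀ v : QuaternionGroup (2 ^ 1), ∃ i : ℕ, v = QuaternionGroup.a 1 ^ i ∨
        v = QuaternionGroup.xa 0 * QuaternionGroup.a 1 ^ i := by
      rintro (i | i)
      · exact ⟨i.val, Or.inl (by rw [QuaternionGroup.a_one_pow, ZMod.natCast_zmod_val])⟩
      · exact ⟨i.val, Or.inr (by
          rw [QuaternionGroup.a_one_pow, ZMod.natCast_zmod_val, QuaternionGroup.xa_mul_a, zero_add])⟩
    have hgS : ∀ z ∈ (S : Subgroup SL(2, F)), g * z * g⁻¹ ∈ (S : Subgroup SL(2, F)) := by
      intro z hz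
      obtain ⟨i, hi⟩ := hgen (e ⟨z, hz⟩)
      rcases hi with h | h
      · have hz' : (⟨z, hz⟩ : (S : Subgroup SL(2, F))) = xs ^ i := e.injective (by
          rw [h, map_pow, MulEquiv.apply_symm_apply])
        have : z = x ^ i := congrArg Subtype.val hz'
        rw [this, ← conj_pow, hgx]
        exact pow_mem ys.2 i
      · have hz' : (⟨z, hz⟩ : (S : Subgroup SL(2, F))) = ys * xs ^ i := e.injective (by
          rw [h, map_mul, map_pow, MulEquiv.apply_symm_apply, MulEquiv.apply_symm_apply])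
        have : z = y * x ^ i := congrArg Subtype.val hz'
        have e2 : g * (y * x ^ i) * g⁻¹ = (g * y * g⁻¹) * (g * x ^ i * g⁻¹) := by group
        rw [this, e2, ← conj_pow, hgx, hgy]
        exact mul_mem (mul_mem xs.2 ys.2) (pow_mem ys.2 i)
    have hgN : g ∈ N := Subgroup.mem_normalizer_fintype hgS
    have hgnot : g ∉ (S : Subgroup SL(2, F)) := by
      intro hg
      have hq := quat_conj_a_one (e ⟨g, hg⟩)
      have hgs : (⟨g, hg⟩ : (S : Subgroup SL(2, F))) * xs * (⟨g, hg⟩ : (S : Subgroup SL(2, F)))⁻¹ = ys :=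
        Subtype.ext hgx
      have hcases : ys = xs ∨ ys = xs⁻¹ := by
        rw [← hgs]
        rcases hq with h | h
        · left; apply e.injective; simpa [xs] using h
        · right; apply e.injective; simpa [xs] using h
      rcases hcases with h | h <;> have := congrArg e h <;> simp [xs, ys] at this
      · exact absurd this (by decide)
    let R := (S : Subgroup SL(2, F)).subgroupOf N
    have hidx : R.index ≤ 3 := by
      let Y : Finset (Subgroup SL(2, F)) :=
        {Subgroup.zpowers x, Subgroup.zpowers y,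
          Subgroup.zpowers ((e.symm (QuaternionGroup.xa 1) : (S : Subgroup SL(2, F))) : SL(2, F))}
      have hmem : ∀ g : N, Subgroup.zpowers ((g : SL(2, F)) * x * (g : SL(2, F))⁻¹) ∈ Y := by
        intro g
        have hm : (g : SL(2, F)) * x * (g : SL(2, F))⁻¹ ∈ (S : Subgroup SL(2, F)) :=
          (Subgroup.mem_normalizer_iff.1 g.2 x).1 xs.2
        set v := e ⟨_, hm⟩ with hv
        have hvv : v * v ≠ 1 := by
          intro h
          have h' : (⟨_, hm⟩ : (S : Subgroup SL(2, F))) * ⟨_, hm⟩ = 1 :=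
            e.injective (by rw [map_mul, map_one, h])
          have h'' : (g : SL(2, F)) * (x * x) * (g : SL(2, F))⁻¹ = 1 := by
            rw [← show (g : SL(2, F)) * x * (g : SL(2, F))⁻¹ * ((g : SL(2, F)) * x * (g : SL(2, F))⁻¹) =
              (g : SL(2, F)) * (x * x) * (g : SL(2, F))⁻¹ by group]
            exact congrArg Subtype.val h'
          rw [conj_eq_one_iff] at h''
          rw [hxx] at h''
          exact neg_one_ne_one h2 h''
        have key : ∀ w : QuaternionGroup (2 ^ 1), (v = w ∨ v⁻¹ = w) →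
            Subgroup.zpowers ((g : SL(2, F)) * x * (g : SL(2, F))⁻¹) =
              Subgroup.zpowers ((e.symm w : (S : Subgroup SL(2, F))) : SL(2, F)) := by
          intro w hw
          rcases hw with rfl | rfl
          · rw [hv, MulEquiv.symm_apply_apply]
          · rw [hv, map_inv, MulEquiv.symm_apply_apply, Subgroup.coe_inv, Subgroup.zpowers_inv]
        simp only [Y, Finset.mem_insert, Finset.mem_singleton]
        rcases quat_four_cases v hvv with h | h | h
        · exact Or.inl (key _ h)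
        · exact Or.inr (Or.inl (key _ h))
        · exact Or.inr (Or.inr (key _ h))
      let f : N ⧸ R → Y := fun q => ⟨_, hmem q.out⟩
      have hf : Function.Injective f := by
        intro q q' hqq
        have heq := congrArg Subtype.val hqq
        simp only [f] at heq
        rw [← q.out_eq', ← q'.out_eq', QuotientGroup.eq]
        set a := ((q.out : N) : SL(2, F)) with ha
        set c := ((q'.out : N) : SL(2, F)) with hc
        change a⁻¹ * c ∈ (S : Subgroup SL(2, F))
        refine hstab _ (mul_mem (inv_mem q.out.2) q'.out.2) ?_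
        have hin : a⁻¹ * c * x * (a⁻¹ * c)⁻¹ ∈ T := by
          have h' : c * x * c⁻¹ ∈ Subgroup.zpowers (a * x * a⁻¹) := heq ▸ Subgroup.mem_zpowers _
          obtain ⟨m, hm⟩ := Subgroup.mem_zpowers_iff.1 h'
          have : a⁻¹ * c * x * (a⁻¹ * c)⁻¹ = x ^ m := by
            rw [conj_zpow] at hm
            calc a⁻¹ * c * x * (a⁻¹ * c)⁻¹ = a⁻¹ * (c * x * c⁻¹) * a := by group
              _ = x ^ m := by rw [← hm]; group
          rw [this]
          exact zpow_mem hxT m
        refine eq_or_inv_of_commute h2 (fun hs => ?_) htrx (hT.comm hin hxT) (trace_conj _ x)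
        rcases (scal_iff_pm x).1 hs with h | h
        · exact hx1 h
        · exact hxn1 h
      calc R.index = Nat.card (N ⧸ R) := rfl
        _ ≤ Nat.card Y := Nat.card_le_card_of_injective f hf
        _ = Y.card := by simp
        _ ≤ 3 := Finset.card_le_three
    have hne1 : R.index ≠ 1 := fun h => hgnot (Subgroup.mem_subgroupOf.1
      (Subgroup.index_eq_one.1 h ▸ Subgroup.mem_top (⟨g, hgN⟩ : N)))
    have hne2 : R.index ≠ 2 := fun h => by
      have := S.not_dvd_index
      apply this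
      have hdvd : R.index ∣ (S : Subgroup SL(2, F)).index :=
        Subgroup.relIndex_dvd_index_of_le Subgroup.le_normalizer
      rwa [h] at hdvd
    have hne0 : R.index ≠ 0 := Subgroup.index_ne_zero_of_finite
    have hcard := Subgroup.card_mul_index R
    rw [Nat.card_congr (Subgroup.subgroupOfEquivOfLe (Subgroup.le_normalizer (H := (S : Subgroup SL(2, F))))).toEquiv,
      show R.index = 3 by omega] at hcard
    rw [← hcard, mul_comm]

end CfsgLib.KnownA.SL2Torus
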