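import Cfsg.Agent.Lib.KnownA.SL2Torus.Classes

/-!
# The split and non-split tori
-/

set_option autoImplicit false

namespace CfsgLib.KnownA.SL2Torus

open scoped MatrixGroups
open CfsgLib.KnownB.GL2 CfsgLib.Classical

variable {F : Type*} [Field F] [Fintype F]

local notation "Mat" => Matrix (Fin 2) (Fin 2) F

theorem even_minus (hodd : Odd (Fintype.card F)) : ∃ m, 1 ≤ m ∧ Fintype.card F = 2 * m + 1 := by
  obtain ⟨m, hm⟩ := hodd
  have := Fintype.one_lt_card (α := F)
  exact ⟨m, by omega, hm⟩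

theorem diagSL_mul (a b : Fˣ) : diagSL (a * b) = diagSL a * diagSL b := by
  apply Subtype.ext
  ext i j
  fin_cases i <;> fin_cases j <;>
    simp [coe_diagSL, Matrix.mul_apply, Fin.sum_univ_two, mul_comm]

/-- The diagonal torus. -/
def diagHom : Fˣ →* SL(2, F) := MonoidHom.mk' diagSL diagSL_mul

theorem diagHom_injective : Function.Injective (diagHom (F := F)) := fun a b h => by
  apply Units.ext
  have := congrArg (fun x : SL(2, F) => (x : Mat) 0 0) h
  simpa [diagHom, coe_diagSL] using this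

theorem mem_diag {g : SL(2, F)} :
    g ∈ (diagHom (F := F)).range ↔ (g : Mat) 0 1 = 0 ∧ (g : Mat) 1 0 = 0 := by
  constructor
  · rintro ⟨a, rfl⟩
    simp [diagHom, coe_diagSL]
  · rintro ⟨h01, h10⟩
    have hd := sl_det g
    rw [Matrix.det_fin_two, h01, zero_mul, sub_zero] at hd
    have h0 : (g : Mat) 0 0 ≠ 0 := fun h => by simp [h] at hd
    refine ⟨Units.mk0 _ h0, Subtype.ext ?_⟩
    ext i j
    fin_cases i <;> fin_cases j <;> simp [diagHom, coe_diagSL, h01, h10]
    exact (eq_inv_of_mul_eq_one_right hd).symm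

theorem card_diag : Nat.card (diagHom (F := F)).range = Fintype.card F - 1 := by
  classical
  rw [← Nat.card_congr (MonoidHom.ofInjective diagHom_injective).toEquiv, Nat.card_units,
    Nat.card_eq_fintype_card]

omit [Fintype F] in
theorem centralizer_diag {g : SL(2, F)} (h01 : (g : Mat) 0 1 = 0) (h10 : (g : Mat) 1 0 = 0)
    (hne : (g : Mat) 0 0 ≠ (g : Mat) 1 1) (x : SL(2, F)) :
    x ∈ Subgroup.centralizer ({g} : Set SL(2, F)) ↔ (x : Mat) 0 1 = 0 ∧ (x : Mat) 1 0 = 0 := by
  rw [Subgroup.mem_centralizer_singleton_iff]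
  constructor
  · intro h
    have h' : (x : Mat) * (g : Mat) = (g : Mat) * (x : Mat) := congrArg Subtype.val h
    have e01 := congrFun (congrFun h' 0) 1
    have e10 := congrFun (congrFun h' 1) 0
    simp [Matrix.mul_apply, Fin.sum_univ_two, h01, h10] at e01 e10
    refine ⟨?_, ?_⟩
    · by_contra hx
      exact hne (mul_left_cancel₀ hx (by linear_combination -e01))
    · by_contra hx
      exact hne (mul_left_cancel₀ hx (by linear_combination e10))
  · rintro ⟨x01, x10⟩
    apply Subtype.ext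
    change (x : Mat) * (g : Mat) = (g : Mat) * (x : Mat)
    ext i j
    fin_cases i <;> fin_cases j <;>
      simp [Matrix.mul_apply, Fin.sum_univ_two, h01, h10, x01, x10, mul_comm]

theorem diag_ne_of_reg {g : SL(2, F)} (h01 : (g : Mat) 0 1 = 0) (h10 : (g : Mat) 1 0 = 0)
    (h1 : g ≠ 1) (hn1 : g ≠ -1) : (g : Mat) 0 0 ≠ (g : Mat) 1 1 := fun e => by
  rcases (scal_iff_pm g).1 ⟨h01, h10, e⟩ with h | h
  · exact h1 h
  · exact hn1 h

/-- The diagonal subgroup is a maximal torus when `q > 3`. -/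
theorem isTorus_diag (h4 : 4 ≤ Fintype.card F) : IsTorus (diagHom (F := F)).range where
  cyclic := isCyclic_of_surjective _ (diagHom (F := F)).rangeRestrict_surjective
  neg := mem_diag.2 (by simp)
  card := by rw [card_diag]; omega
  cent g hg h1 hn1 := by
    obtain ⟨h01, h10⟩ := mem_diag.1 hg
    have hne := diag_ne_of_reg h01 h10 h1 hn1
    refine ⟨Subgroup.ext fun x => by rw [centralizer_diag h01 h10 hne, mem_diag], fun h => hne ?_⟩
    have hd := sl_det g
    rw [Matrix.det_fin_two, h01, zero_mul, sub_zero] at hd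
    rw [Matrix.trace_fin_two] at h
    exact sub_eq_zero.1 (pow_eq_zero_iff two_ne_zero |>.1
      (show ((g : Mat) 0 0 - (g : Mat) 1 1) ^ 2 = 0 by linear_combination h - 4 * hd))

variable [DecidableEq F] {t₀ d₀ : F}

theorem torS_comm (h₀ : rts t₀ d₀ = ∅) {a b : SL(2, F)} (ha : a ∈ torS h₀) (hb : b ∈ torS h₀) :
    a * b = b * a := by
  have := isCyclic_torS h₀
  have h : IsMulCommutative (torS h₀) := inferInstance
  exact congrArg Subtype.val (h.is_comm.comm ⟨a, ha⟩ ⟨b, hb⟩)

theorem card_cent_elliptic {g : SL(2, F)} (hg : ¬ Scal (g : Mat))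
    (hr : rts (g : Mat).trace 1 = ∅) (hd : dsc (g : Mat).trace 1 ≠ 0) :
    Nat.card (Subgroup.centralizer ({g} : Set SL(2, F))) = Fintype.card F + 1 := by
  have h := card_centSL g hg (Or.inl hd)
  rw [hr, Finset.card_empty, mul_zero, add_zero] at h
  obtain ⟨r, hr'⟩ : ∃ r, Fintype.card F = r + 2 :=
    ⟨Fintype.card F - 2, by have := Fintype.one_lt_card (α := F); omega⟩
  rw [hr', show r + 2 - 1 = r + 1 from rfl] at h
  rw [hr']
  nlinarith

theorem isTorus_torS (h₀ : rts t₀ d₀ = ∅) : IsTorus (torS h₀) where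
  cyclic := isCyclic_torS h₀
  neg := by
    have h1 : ((-1 : F)) ^ 2 = 1 := by ring
    have he : (-1 : SL(2, F)) = scalSL (-1) h1 := Subtype.ext (by simp [coe_scalSL])
    rw [he]
    exact (sgT h₀ ⟨-1, mem_signs.2 h1⟩).2
  card := by rw [card_torS]; have := Fintype.one_lt_card (α := F); omega
  cent g hg h1 hn1 := by
    have hs : ¬ Scal (((⟨g, hg⟩ : torS h₀) : SL(2, F)) : Mat) := fun h => by
      rcases (scal_iff_pm g).1 h with e | e
      · exact h1 e
      · exact hn1 e
    have hd := dsc_torS h₀ hs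
    refine ⟨?_, fun h => hd (by rw [dsc]; linear_combination h)⟩
    refine (Subgroup.eq_of_le_of_card_ge (fun x hx => ?_) ?_).symm
    · rw [Subgroup.mem_centralizer_singleton_iff]
      exact torS_comm h₀ hx hg
    · rw [card_cent_elliptic hs (rts_torS h₀ hs) hd, card_torS]

omit [Fintype F] [DecidableEq F] in
theorem exists_gen_conj {T : Subgroup SL(2, F)} (x : SL(2, F)) (g : SL(2, F)) :
    g ∈ T.map (MulAut.conj x).toMonoidHom ↔ x⁻¹ * g * x ∈ T := by
  rw [Subgroup.mem_map_equiv]
  simp

omit [DecidableEq F] in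
theorem IsTorus.map_conj {T : Subgroup SL(2, F)} (hT : IsTorus T) (x : SL(2, F)) :
    IsTorus (T.map (MulAut.conj x).toMonoidHom) where
  cyclic := by
    have := hT.cyclic
    exact isCyclic_of_surjective _
      (Subgroup.equivMapOfInjective T _ (MulAut.conj x).injective).surjective
  neg := (exists_gen_conj x _).2 (by
    have : x⁻¹ * -1 * x = -1 := by
      rw [mul_assoc, ← Subgroup.mem_center_iff.1 neg_one_mem_center x, ← mul_assoc, inv_mul_cancel,
        one_mul]
    rw [this]; exact hT.neg)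
  card := by
    rw [← Nat.card_congr (Subgroup.equivMapOfInjective T _ (MulAut.conj x).injective).toEquiv]
    exact hT.card
  cent g hg h1 hn1 := by
    rw [exists_gen_conj] at hg
    have hg1 : x⁻¹ * g * x ≠ 1 := fun e => h1 (by
      have := congrArg (fun y => x * y * x⁻¹) e
      simpa [mul_assoc] using this)
    have hgn1 : x⁻¹ * g * x ≠ -1 := fun e => hn1 (by
      calc g = x * (x⁻¹ * g * x) * x⁻¹ := by group
        _ = -1 := by rw [e, Subgroup.mem_center_iff.1 neg_one_mem_center x, mul_inv_cancel_right])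
    obtain ⟨hC, htr⟩ := hT.cent _ hg hg1 hgn1
    refine ⟨Subgroup.ext fun y => ?_, ?_⟩
    · rw [exists_gen_conj, ← hC, Subgroup.mem_centralizer_singleton_iff,
        Subgroup.mem_centralizer_singleton_iff]
      constructor
      · intro h
        calc x⁻¹ * y * x * (x⁻¹ * g * x) = x⁻¹ * (y * g) * x := by group
          _ = x⁻¹ * g * x * (x⁻¹ * y * x) := by rw [h]; group
      · intro h
        have := congrArg (fun z => x * z * x⁻¹) h
        simpa [mul_assoc] using this
    · rwa [show x⁻¹ * g * x = x⁻¹ * g * (x⁻¹)⁻¹ by rw [inv_inv], trace_conj] at htr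

omit [DecidableEq F] in
/-- Every regular element lies in a maximal torus of order `q - 1` or `q + 1`. -/
theorem exists_torus (hodd : Odd (Fintype.card F)) {g : SL(2, F)} (ht : (g : Mat).trace ^ 2 ≠ 4) :
    ∃ T : Subgroup SL(2, F), IsTorus T ∧ g ∈ T ∧
      (Nat.card T = Fintype.card F - 1 ∨ Nat.card T = Fintype.card F + 1) := by
  classical
  obtain ⟨t₀, d₀, -, h₀⟩ := exists_irreducible (F := F)
  rcases sl_cases h₀ g with ⟨r, rfl⟩ | ⟨r, b, hc⟩ | ⟨a, ha, hc⟩ | ⟨c, hc0, hc⟩
  · exact absurd (by simp [coe_scalSL, Matrix.trace_fin_two]; linear_combination 4 * sg_sq r) ht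
  · refine absurd ?_ ht
    rw [← (sl_isConj_trace hc).1, trace_parSL]
    linear_combination 4 * sg_sq r
  · have h4 : 4 ≤ Fintype.card F := by
      obtain ⟨m, hm1, hm⟩ := even_minus hodd
      rcases eq_or_lt_of_le hm1 with e | e
      · exfalso
        apply ha
        have h := FiniteField.pow_card_sub_one_eq_one (a : F) a.ne_zero
        rw [hm, ← e] at h
        simpa using h
      · omega
    obtain ⟨x, rfl⟩ := isConj_iff.1 hc
    refine ⟨(diagHom (F := F)).range.map (MulAut.conj x).toMonoidHom,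
      (isTorus_diag h4).map_conj x, Subgroup.mem_map.2 ⟨diagSL a, ⟨a, rfl⟩, rfl⟩, Or.inl ?_⟩
    rw [← Nat.card_congr (Subgroup.equivMapOfInjective _ _ (MulAut.conj x).injective).toEquiv, card_diag]
  · obtain ⟨x, rfl⟩ := isConj_iff.1 hc
    refine ⟨(torS h₀).map (MulAut.conj x).toMonoidHom, (isTorus_torS h₀).map_conj x,
      Subgroup.mem_map.2 ⟨_, c.2, rfl⟩, Or.inr ?_⟩
    rw [← Nat.card_congr (Subgroup.equivMapOfInjective _ _ (MulAut.conj x).injective).toEquiv, card_torS]

end CfsgLib.KnownA.SL2Torus
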