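import Cfsg.Agent.Lib.Classical.SL2Tori
import Cfsg.Agent.Lib.KnownB.GL2.TorusSL
import Cfsg.Agent.Lib.KnownB.GL2.Basics

/-!
# Maximal tori of `SL(2, q)`, `q` odd, and their normalisers
-/

set_option autoImplicit false

namespace CfsgLib.KnownA.SL2Torus

open scoped MatrixGroups
open CfsgLib.KnownB.GL2 CfsgLib.Classical

variable {F : Type*} [Field F]

local notation "Mat" => Matrix (Fin 2) (Fin 2) F

theorem scal_iff_pm (g : SL(2, F)) : Scal (g : Mat) ↔ g = 1 ∨ g = -1 := by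
  constructor
  · intro h
    obtain ⟨c, hc⟩ := (scal_iff_exists _).1 h
    have hd := sl_det g
    rw [hc, Matrix.det_smul, Matrix.det_one, mul_one, Fintype.card_fin] at hd
    rcases sq_eq_one_iff.1 hd with rfl | rfl
    · exact Or.inl (Subtype.ext (by simpa using hc))
    · exact Or.inr (Subtype.ext (by simpa using hc))
  · rintro (rfl | rfl) <;> simp [Scal]

theorem neg_one_mem_center : (-1 : SL(2, F)) ∈ Subgroup.center SL(2, F) :=
  Subgroup.mem_center_iff.2 fun g => Subtype.ext (by simp)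

theorem neg_one_sq' : (-1 : SL(2, F)) * -1 = 1 := Subtype.ext (by simp)

/-- The data of a maximal torus. -/
structure IsTorus (T : Subgroup SL(2, F)) : Prop where
  cyclic : IsCyclic T
  neg : (-1 : SL(2, F)) ∈ T
  card : 3 ≤ Nat.card T
  cent : ∀ g ∈ T, g ≠ 1 → g ≠ -1 →
    Subgroup.centralizer ({g} : Set SL(2, F)) = T ∧ (g : Mat).trace ^ 2 ≠ 4

/-- A non-central element commuting with a conjugate of itself. -/
theorem eq_or_inv_of_commute (h2 : (2 : F) ≠ 0) {g : SL(2, F)} (hg : ¬ Scal (g : Mat))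
    (ht : (g : Mat).trace ^ 2 ≠ 4) {x : SL(2, F)} (hc : Commute x g)
    (htr : (x : Mat).trace = (g : Mat).trace) : x = g ∨ x = g⁻¹ := by
  obtain ⟨a, b, hab⟩ := exists_of_commute hg (congrArg Subtype.val hc :)
  have hd := det_lin (g : Mat) a b
  rw [← hab, sl_det, sl_det, nf] at hd
  have hl := trace_lin (g : Mat) a b
  rw [← hab, htr] at hl
  set τ := (g : Mat).trace with hτ
  have hb : (τ ^ 2 - 4) * (b ^ 2 - 1) = 0 := by
    linear_combination 4 * hd + (-(2 * a + τ * b + τ)) * hl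
  have hb' : b ^ 2 = 1 := sub_eq_zero.1 ((mul_eq_zero.1 hb).resolve_left (sub_ne_zero.2 ht))
  rcases sq_eq_one_iff.1 hb' with rfl | rfl
  · left
    have h2a : (2 : F) * a = 0 := by linear_combination -hl
    rw [(mul_eq_zero.1 h2a).resolve_left h2] at hab
    exact Subtype.ext (by rw [hab]; simp)
  · right
    have h2a : (2 : F) * (a - τ) = 0 := by linear_combination -hl
    rw [sub_eq_zero.1 ((mul_eq_zero.1 h2a).resolve_left h2)] at hab
    apply Subtype.ext
    rw [hab, Matrix.SpecialLinearGroup.coe_inv, Matrix.adjugate_fin_two]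
    ext i j
    fin_cases i <;> fin_cases j <;> simp [hτ, Matrix.trace_fin_two]

theorem trace_conj (h g : SL(2, F)) : ((h * g * h⁻¹ : SL(2, F)) : Mat).trace = (g : Mat).trace := by
  rw [Matrix.SpecialLinearGroup.coe_mul, Matrix.SpecialLinearGroup.coe_mul, Matrix.trace_mul_cycle,
    ← Matrix.SpecialLinearGroup.coe_mul, inv_mul_cancel, Matrix.SpecialLinearGroup.coe_one,
    Matrix.one_mul]

variable [Fintype F]

theorem two_ne_zero_of_odd' (hodd : Odd (Fintype.card F)) : (2 : F) ≠ 0 := by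
  intro h
  obtain ⟨p, hp⟩ := CharP.exists F
  obtain ⟨n, hprime, hn⟩ := FiniteField.card F p
  have : p = 2 := (Nat.prime_dvd_prime_iff_eq hprime Nat.prime_two).1
    ((CharP.cast_eq_zero_iff F p 2).1 (by exact_mod_cast h))
  rw [hn, this] at hodd
  exact Nat.not_odd_iff_even.2 ((Nat.even_pow.2 ⟨even_two, n.ne_zero⟩)) hodd

theorem neg_one_ne_one (h2 : (2 : F) ≠ 0) : (-1 : SL(2, F)) ≠ 1 := sl2_neg_ne_one h2

namespace IsTorus

variable {T : Subgroup SL(2, F)} (hT : IsTorus T)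

include hT

theorem comm {a b : SL(2, F)} (ha : a ∈ T) (hb : b ∈ T) : a * b = b * a := by
  have := hT.cyclic
  have h : IsMulCommutative T := inferInstance
  exact congrArg Subtype.val (h.is_comm.comm ⟨a, ha⟩ ⟨b, hb⟩)

theorem exists_gen : ∃ t ∈ T, t ≠ 1 ∧ t ≠ -1 ∧ T = Subgroup.zpowers t := by
  obtain ⟨t, ht⟩ := (Subgroup.isCyclic_iff_exists_zpowers_eq_top (H := T)).1 hT.cyclic
  have ho : 3 ≤ orderOf t := by rw [← Nat.card_zpowers, ht]; exact hT.card
  refine ⟨t, ht ▸ Subgroup.mem_zpowers t, ?_, ?_, ht.symm⟩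
  · rintro rfl; simp at ho
  · rintro rfl
    have : orderOf (-1 : SL(2, F)) ∣ 2 := orderOf_dvd_of_pow_eq_one (by rw [pow_two, neg_one_sq'])
    have := Nat.le_of_dvd two_pos this
    omega

theorem centralizer_eq : Subgroup.centralizer (T : Set SL(2, F)) = T := by
  obtain ⟨t, htT, h1, h2, hz⟩ := hT.exists_gen
  refine le_antisymm ?_ fun a ha => Subgroup.mem_centralizer_iff.2 fun b hb => hT.comm hb ha
  refine le_trans (Subgroup.centralizer_le (Set.singleton_subset_iff.2 htT)) ?_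
  rw [(hT.cent t htT h1 h2).1]

/-- An inverting element. -/
theorem exists_flip (h2 : (2 : F) ≠ 0) :
    ∃ b, b ∉ T ∧ b * b = -1 ∧ ∀ a ∈ T, b * a * b⁻¹ = a⁻¹ := by
  obtain ⟨t, htT, h1, hn1, hz⟩ := hT.exists_gen
  obtain ⟨b, hb, hbt⟩ := sl2_exists_inverter h2 t (hT.cent t htT h1 hn1).2
  have hinv : ∀ a ∈ T, b * a * b⁻¹ = a⁻¹ := by
    intro a ha
    rw [hz] at ha
    obtain ⟨k, rfl⟩ := Subgroup.mem_zpowers_iff.1 ha
    rw [← MulAut.conj_apply, map_zpow, MulAut.conj_apply, hbt, inv_zpow]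
  refine ⟨b, fun hbT => ?_, hb, hinv⟩
  have e := hinv t htT
  rw [hT.comm hbT htT, mul_inv_cancel_right] at e
  have : t * t = 1 := by nth_rewrite 1 [e]; rw [inv_mul_cancel]
  rcases eq_or_ne t 1 with h | h
  · exact h1 h
  · exact hn1 (sl2_eq_neg_one h2 h this)

variable (h2 : (2 : F) ≠ 0) {b : SL(2, F)} (hb : b ∉ T) (hbb : b * b = -1)
  (hinv : ∀ a ∈ T, b * a * b⁻¹ = a⁻¹)

include h2 hb hbb hinv

omit hb in
theorem mem_normalizer_flip : b ∈ Subgroup.normalizer (T : Set SL(2, F)) := by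
  rw [Subgroup.mem_normalizer_iff]
  intro a
  constructor
  · intro ha; rw [hinv a ha]; exact T.inv_mem ha
  · intro ha
    have e := hinv _ ha
    have h4 : b * (b * a * b⁻¹) * b⁻¹ = a := by
      have hc := Subgroup.mem_center_iff.1 (neg_one_mem_center (F := F)) a
      calc b * (b * a * b⁻¹) * b⁻¹ = (b * b) * a * (b * b)⁻¹ := by group
        _ = a := by rw [hbb, ← hc, mul_inv_cancel_right]
    rw [h4] at e
    rw [e]
    exact T.inv_mem ha

theorem mem_normalizer_iff' {g : SL(2, F)} :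
    g ∈ Subgroup.normalizer (T : Set SL(2, F)) ↔ g ∈ T ∨ g * b ∈ T := by
  have hbN := hT.mem_normalizer_flip h2 hbb hinv
  constructor
  · intro hg
    obtain ⟨t, htT, h1, hn1, hz⟩ := hT.exists_gen
    obtain ⟨hC, htr⟩ := hT.cent t htT h1 hn1
    have hm : g * t * g⁻¹ ∈ T := (Subgroup.mem_normalizer_iff.1 hg t).1 htT
    rcases eq_or_inv_of_commute h2 (fun hs => by
        rcases (scal_iff_pm t).1 hs with h | h
        · exact h1 h
        · exact hn1 h) htr (hT.comm hm htT) (trace_conj g t) with e | e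
    · left
      rw [← hC, Subgroup.mem_centralizer_singleton_iff]
      exact mul_inv_eq_iff_eq_mul.1 e
    · right
      rw [← hC, Subgroup.mem_centralizer_singleton_iff]
      have e2 : g * t⁻¹ * g⁻¹ = t := by
        have := congrArg (fun x => x⁻¹) e
        simpa [mul_assoc] using this
      calc g * b * t = g * (b * t * b⁻¹) * b := by group
        _ = g * t⁻¹ * g⁻¹ * (g * b) := by rw [hinv t htT]; group
        _ = t * (g * b) := by rw [e2]
  · rintro (h | h)
    · exact Subgroup.le_normalizer h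
    · simpa using mul_mem (Subgroup.le_normalizer (H := T) h) (inv_mem hbN)

theorem card_normalizer : Nat.card (Subgroup.normalizer (T : Set SL(2, F))) = 2 * Nat.card T := by
  classical
  have hbN := hT.mem_normalizer_flip h2 hbb hinv
  have hi : T.relIndex (Subgroup.normalizer (T : Set SL(2, F))) = 2 := by
    rw [Subgroup.relIndex, Subgroup.index_eq_two_iff]
    refine ⟨⟨b, hbN⟩, fun g => ?_⟩
    simp only [Subgroup.mem_subgroupOf, Subgroup.coe_mul]
    rcases (hT.mem_normalizer_iff' h2 hb hbb hinv).1 g.2 with h | h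
    · exact Or.inr ⟨h, fun h' => hb ((T.mul_mem_cancel_left h).1 h')⟩
    · refine Or.inl ⟨h, fun h' => hb ((T.mul_mem_cancel_left h').1 h)⟩
  have h := Subgroup.card_mul_index (T.subgroupOf (Subgroup.normalizer (T : Set SL(2, F))))
  rw [Nat.card_congr (Subgroup.subgroupOfEquivOfLe (Subgroup.le_normalizer (H := T))).toEquiv,
    ← Subgroup.relIndex, hi] at h
  rw [← h, mul_comm]

theorem outside_inv {g : SL(2, F)} (hg : g ∈ Subgroup.normalizer (T : Set SL(2, F))) (hgT : g ∉ T) :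
    g * g = -1 ∧ ∀ a ∈ T, g * a * g⁻¹ = a⁻¹ := by
  have hgb := ((hT.mem_normalizer_iff' h2 hb hbb hinv).1 hg).resolve_left hgT
  obtain ⟨c, hc, rfl⟩ : ∃ c ∈ T, g = c * b⁻¹ := ⟨g * b, hgb, by group⟩
  have hbinv : ∀ a ∈ T, b⁻¹ * a * b = a⁻¹ := fun a ha => by
    have e := hinv _ (T.inv_mem ha)
    rw [inv_inv] at e
    calc b⁻¹ * a * b = b⁻¹ * (b * a⁻¹ * b⁻¹) * b := by rw [e]
      _ = a⁻¹ := by group
  refine ⟨?_, fun a ha => ?_⟩
  · have hb2 : (b * b)⁻¹ = -1 := by
      rw [hbb]; exact inv_eq_of_mul_eq_one_right neg_one_sq'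
    calc c * b⁻¹ * (c * b⁻¹) = c * (b⁻¹ * c * b) * (b * b)⁻¹ := by group
      _ = -1 := by rw [hbinv c hc, hb2, mul_inv_cancel, one_mul]
  · calc c * b⁻¹ * a * (c * b⁻¹)⁻¹ = c * (b⁻¹ * a * b) * c⁻¹ := by group
      _ = a⁻¹ := by rw [hbinv a ha, hT.comm hc (T.inv_mem ha), mul_inv_cancel_right]

end IsTorus

end CfsgLib.KnownA.SL2Torus
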